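import Cfsg.Agent.Lib.Walter.CombBase

/-!
# Pair systems on an elementary abelian subgroup whose automiser may have even order: definitions

Owner: helper1 (`notes/goldschmidt_helper72.md`, section 1).  The structures of `Lib/Walter` with
`Ω₁(S)` replaced by a subgroup `A`, and `N(S)` by `N(A)`.
-/

set_option autoImplicit false

universe u

namespace Cfsg.Agent.Lib.Goldschmidt1

open Subgroup
open Cfsg.Agent.Lib.Walter (IsBlock)

variable {G : Type u} [Group G]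

/-- The properties of pairs used by the combinatorics. -/
structure PairSystem (A : Subgroup G) (P : Subgroup G → Subgroup G → Subgroup G → Prop) :
    Prop where
  le_Q : ∀ B W Q, P B W Q → B ≤ Q
  base_ne : ∀ B W Q, P B W Q → B ≠ ⊥
  W_le : ∀ B W Q, P B W Q → W ≤ A
  Q_le : ∀ B W Q, P B W Q → Q ≤ A
  disj : ∀ B W Q, P B W Q → W ⊓ Q = ⊥
  span : ∀ B W Q, P B W Q → W ⊔ Q = A
  four_le : ∀ B W Q, P B W Q → 4 ≤ Nat.card W
  unique : ∀ B W Q Q', P B W Q → P B W Q' → Q = Q'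
  orth : ∀ B W Q W' Q', P B W Q → P B W' Q' → W ≠ W' → W' ≤ Q
  up : ∀ B B' W Q, P B W Q → B ≤ B' → B' ≤ Q → P B' W Q
  down : ∀ B B' W' Q', P B' W' Q' → B ≤ B' → B ≠ ⊥ → ∃ W Q, P B W Q ∧ W' ≤ W ∧ Q ≤ Q' ∧
    (W' = W ∧ Q' = Q ∨ Nat.card W' = 4 ∧ Nat.card W = 8)
  torus : ∀ B W Q, P B W Q → ∃ n ∈ normalizer (A : Set G),
    (∀ q ∈ Q, n * q * n⁻¹ = q) ∧ (∀ w ∈ W, n * w * n⁻¹ ∈ W) ∧
    ∀ x ∈ W, x ≠ 1 → ∀ y ∈ W, y ≠ 1 → ∃ k : ℕ, n ^ k * x * (n ^ k)⁻¹ = y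
  conj : ∀ n ∈ normalizer (A : Set G), ∀ B W Q, P B W Q →
    P (B.map (MulAut.conj n).toMonoidHom) (W.map (MulAut.conj n).toMonoidHom)
      (Q.map (MulAut.conj n).toMonoidHom)

/-- The case of Janko–Ree type. -/
structure CaseJR (A : Subgroup G) (P : Subgroup G → Subgroup G → Subgroup G → Prop) : Prop where
  card : Nat.card ↥A = 8
  trans : ∀ a ∈ A, a ≠ 1 → ∀ b ∈ A, b ≠ 1 →
    ∃ n ∈ normalizer (A : Set G), n * a * n⁻¹ = b
  pair : ∀ a ∈ A, a ≠ 1 → ∃ W, P (zpowers a) W (zpowers a) ∧ Nat.card W = 4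
  odd : ∀ n ∈ normalizer (A : Set G), ∃ m : ℕ, Odd m ∧ ∀ x ∈ A, n ^ m * x * (n ^ m)⁻¹ = x

/-- The monomial case: `A` is the direct sum of at least three blocks. -/
structure CaseMono (A : Subgroup G) (P : Subgroup G → Subgroup G → Subgroup G → Prop)
    (ι : Type) (W Q : ι → Subgroup G) : Prop where
  three : 3 ≤ Nat.card ι
  block : ∀ i, IsBlock P (W i) (Q i)
  four_le : ∀ i, 4 ≤ Nat.card (W i)
  le : ∀ i, W i ≤ A
  le_Q : ∀ i j, i ≠ j → W j ≤ Q i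
  span : (⨆ i, W i) = A
  disj : ∀ i, W i ⊓ Q i = ⊥
  Q_eq : ∀ i, (⨆ j : {j : ι // j ≠ i}, W j) = Q i
  card_eq : ∀ i j, Nat.card (W i) = Nat.card (W j)
  perm : ∀ n ∈ normalizer (A : Set G), ∀ i, ∃ j,
    (W i).map (MulAut.conj n).toMonoidHom = W j ∧ (Q i).map (MulAut.conj n).toMonoidHom = Q j
  all : ∀ B V R, P B V R → ∃ i, V ≤ W i ∧ Q i ≤ R


/-- The hypotheses of the combinatorics: `A` is elementary abelian, irreducible under `N(A)`, and
`N(A)/C(A)` has no subgroup of index two. -/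
structure Setup (A : Subgroup G) (P : Subgroup G → Subgroup G → Subgroup G → Prop) : Prop where
  comm : ∀ x ∈ A, ∀ y ∈ A, x * y = y * x
  two : ∀ x ∈ A, x * x = 1
  irr : ∀ U : Subgroup G, U ≤ A →
    (∀ n ∈ normalizer (A : Set G), ∀ x ∈ U, n * x * n⁻¹ ∈ U) → U = ⊥ ∨ U = A
  perfect : ∀ L : Subgroup ↥(normalizer (A : Set G)),
    (centralizer (A : Set G)).subgroupOf (normalizer (A : Set G)) ≤ L → L.index ≠ 2
  sys : PairSystem A P

end Cfsg.Agent.Lib.Goldschmidt1
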