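import Cfsg.Agent.Lib.Goldschmidt1.Comb.Base

/-!
# Pair systems on `A`: tori have odd period; an orbit of blocks does not have two members

Owner: helper1 (`notes/goldschmidt_helper72.md`, section 1).
-/

set_option autoImplicit false
set_option linter.style.haveILetI false

universe u

namespace Cfsg.Agent.Lib.Goldschmidt1

open Subgroup
open Cfsg.Agent.Lib.Walter.CombBase (cj cj_apply cj_mul cj_one cj_inj mem_map_cj card_map_cj mv mv_mul mv_one mv_inj mv_swap map_cj_eq_self)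

variable {G : Type u} [Group G] [Finite G] {A : Subgroup G}
  {P : Subgroup G → Subgroup G → Subgroup G → Prop}

omit [Finite G] in
theorem cj_pow_iterate (n : G) (i : ℕ) (a : G) : (cj n)^[i] a = cj (n ^ i) a := by
  induction i with
  | zero => rw [Function.iterate_zero_apply, pow_zero, cj_one]
  | succ i ih => rw [Function.iterate_succ_apply', ih, pow_succ', cj_mul]

/-- Subgroups of `A` have order a power of two. -/
theorem Setup.exists_two_pow (H : Setup A P) {K : Subgroup G} (hK : K ≤ A) :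
    ∃ k : ℕ, Nat.card ↥K = 2 ^ k := by
  haveI : Fact (Nat.Prime 2) := ⟨Nat.prime_two⟩
  have h : IsPGroup 2 ↥K := fun x => ⟨1, by
    apply Subtype.ext
    simpa [pow_two] using H.mul_self (hK x.2)⟩
  exact IsPGroup.iff_card.1 h

/-- An element centralising `R`, normalising `V` and transitive on `V` minus `1` has odd period
on `A = V R`. -/
theorem Setup.torus_odd (H : Setup A P) {n : G} {V R : Subgroup G} (hVA : V ≤ A) (hRA : R ≤ A)
    (hspan : V ⊔ R = A) (hfix : ∀ q ∈ R, cj n q = q) (hV : ∀ w ∈ V, cj n w ∈ V)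
    (htr : ∀ a ∈ V, a ≠ 1 → ∀ b ∈ V, b ≠ 1 → ∃ k : ℕ, cj (n ^ k) a = b) :
    ∃ k : ℕ, ∀ x ∈ A, cj (n ^ (2 * k + 1)) x = x := by
  classical
  have hfixR : ∀ i : ℕ, ∀ q ∈ R, cj (n ^ i) q = q := by
    intro i
    induction i with
    | zero => intro q _; rw [pow_zero, cj_one]
    | succ i ih => intro q hq; rw [pow_succ, cj_mul, hfix q hq, ih q hq]
  by_cases hV1 : V = ⊥
  · refine ⟨0, fun x hx => hfixR _ x ?_⟩
    rw [hV1, bot_sup_eq] at hspan
    rwa [hspan]
  obtain ⟨a, ha, ha1⟩ := exists_ne_one hV1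
  have hpow : ∀ i : ℕ, ∀ w ∈ V, cj (n ^ i) w ∈ V := by
    intro i
    induction i with
    | zero => intro w hw; rwa [pow_zero, cj_one]
    | succ i ih => intro w hw; rw [pow_succ, cj_mul]; exact ih _ (hV w hw)
  set p := Function.minimalPeriod (cj n) a with hp
  have hper : a ∈ Function.periodicPts (cj n) := by
    refine ⟨orderOf n, orderOf_pos n, ?_⟩
    show (cj n)^[orderOf n] a = a
    rw [cj_pow_iterate, pow_orderOf_eq_one, cj_one]
  have hp0 : 0 < p := Function.minimalPeriod_pos_of_mem_periodicPts hper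
  let f : Fin p → {v : ↥V // v ≠ 1} := fun i =>
    ⟨⟨cj (n ^ (i : ℕ)) a, hpow _ a ha⟩, fun e =>
      ha1 ((map_eq_one_iff (cj (n ^ (i : ℕ))) (cj_inj _)).1 (congrArg Subtype.val e))⟩
  have hf : Function.Bijective f := by
    constructor
    · intro i j e
      have e' : cj (n ^ (i : ℕ)) a = cj (n ^ (j : ℕ)) a :=
        congrArg (fun v : {v : ↥V // v ≠ 1} => (v.1 : G)) e
      rw [← cj_pow_iterate, ← cj_pow_iterate] at e'
      exact Fin.ext ((Function.iterate_eq_iterate_iff_of_lt_minimalPeriod i.2 j.2).1 e')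
    · rintro ⟨⟨b, hb⟩, hb1⟩
      obtain ⟨k, hk⟩ := htr a ha ha1 b hb fun e => hb1 (Subtype.ext e)
      refine ⟨⟨k % p, Nat.mod_lt _ hp0⟩, Subtype.ext (Subtype.ext ?_)⟩
      show cj (n ^ (k % p)) a = b
      rw [← cj_pow_iterate, hp, Function.iterate_mod_minimalPeriod_eq, cj_pow_iterate, hk]
  have hcard := Nat.card_congr (Equiv.ofBijective f hf)
  rw [Nat.card_fin] at hcard
  obtain ⟨k, hk⟩ := H.exists_two_pow hVA
  have hV2 : p + 1 = Nat.card ↥V := by
    rw [hcard, ← Nat.card_congr (Equiv.optionSubtypeNe (1 : ↥V)), Finite.card_option]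
  have hodd : Odd p := by
    rcases k with _ | k
    · omega
    · rw [Nat.odd_iff]
      rw [hk, pow_succ] at hV2
      omega
  obtain ⟨j, hj⟩ := hodd
  refine ⟨j, fun x hx => ?_⟩
  obtain ⟨w, hw, r, hr, rfl⟩ := H.split hVA hRA hspan hx
  rw [map_mul, hfixR _ r hr]
  congr 1
  by_cases hw1 : w = 1
  · rw [hw1, map_one]
  obtain ⟨i, hi⟩ := htr a ha ha1 w hw hw1
  have hfa : cj (n ^ p) a = a := by
    rw [← cj_pow_iterate, hp, Function.iterate_minimalPeriod]
  rw [← hj, ← hi, ← cj_mul, ← pow_add, add_comm, pow_add, cj_mul, hfa]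

/-- The torus of a pair swaps no two pairs of subgroups of `A`. -/
theorem Setup.torus_no_swap (H : Setup A P) {n : G} {V R : Subgroup G} (hVA : V ≤ A) (hRA : R ≤ A)
    (hspan : V ⊔ R = A) (hfix : ∀ q ∈ R, cj n q = q) (hV : ∀ w ∈ V, cj n w ∈ V)
    (htr : ∀ a ∈ V, a ≠ 1 → ∀ b ∈ V, b ≠ 1 → ∃ k : ℕ, cj (n ^ k) a = b)
    {x y : Subgroup G × Subgroup G} (hx1 : x.1 ≤ A) (hx2 : x.2 ≤ A)
    (h1 : mv n x = y) (h2 : mv n y = x) : x = y := by
  obtain ⟨k, hk⟩ := H.torus_odd hVA hRA hspan hfix hV htr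
  have h3 := mv_swap h1 h2 k
  have hf : ∀ K : Subgroup G, K ≤ A → K.map (cj (n ^ (2 * k + 1))) = K := fun K hK =>
    map_cj_eq_self fun z hz => by rw [hk z (hK hz)]; exact hz
  rw [← h3, mv, hf _ hx1, hf _ hx2]

/-- An orbit of blocks does not consist of two members, as `N(A)/C(A)` has no subgroup of
index two. -/
theorem Setup.exists_third (H : Setup A P) {x y : Subgroup G × Subgroup G}
    (hx1 : x.1 ≤ A) (hx2 : x.2 ≤ A) (hy : y ∈ orbit A x) (hxy : x ≠ y) :
    ∃ z ∈ orbit A x, z ≠ x ∧ z ≠ y := by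
  by_contra hc
  push Not at hc
  have hor : ∀ z ∈ orbit A x, z = x ∨ z = y := fun z hz => or_iff_not_imp_left.2 (hc z hz)
  obtain ⟨g, hg, hgx⟩ := hy
  let L : Subgroup ↥(NA A) :=
    { carrier := {n | mv (n : G) x = x}
      mul_mem' := fun {a b} ha hb => by
        show mv ((a : G) * b) x = x
        rw [mv_mul, hb, ha]
      one_mem' := mv_one x
      inv_mem' := fun {a} ha => by
        show mv (a : G)⁻¹ x = x
        calc mv (a : G)⁻¹ x = mv (a : G)⁻¹ (mv (a : G) x) := by rw [show mv (a : G) x = x from ha]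
          _ = x := by rw [← mv_mul, inv_mul_cancel, mv_one] }
  refine H.perfect L (fun c hc => ?_) (Subgroup.index_eq_two_iff.2 ⟨⟨g, hg⟩, fun b => ?_⟩)
  · have hfix : ∀ K : Subgroup G, K ≤ A → K.map (cj (c : G)) = K := fun K hK =>
      map_cj_eq_self fun z hz => by
        rw [cj_apply, ← mem_centralizer_iff.1 (mem_subgroupOf.1 hc) z (hK hz),
          mul_inv_cancel_right]
        exact hz
    exact Prod.ext (hfix _ hx1) (hfix _ hx2)
  · have hy' : y ∈ orbit A x := ⟨g, hg, hgx⟩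
    have e1 : mv ((b * ⟨g, hg⟩ : ↥(NA A)) : G) x = mv (b : G) y := by
      rw [Subgroup.coe_mul, mv_mul, hgx]
    show Xor (mv _ x = x) (mv (b : G) x = x)
    rw [e1]
    rcases hor _ (mv_mem_orbit b.2 (self_mem_orbit A x)) with h | h
    · exact Or.inr ⟨h, fun h2 => hxy (mv_inj (b : G) (h.trans h2.symm))⟩
    · refine Or.inl ⟨?_, fun h2 => hxy (h2.symm.trans h)⟩
      rcases hor _ (mv_mem_orbit b.2 hy') with h2 | h2
      · exact h2
      · exact absurd (mv_inj (b : G) (h.trans h2.symm)) hxy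

end Cfsg.Agent.Lib.Goldschmidt1
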